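import Cfsg.Agent.H193.K6.ThFive
import Cfsg.Agent.H444.ThLoc
import Cfsg.Agent.H502.TO.Loc
import Cfsg.Agent.Lib.MinNormal
import Cfsg.Agent.H670.S8.KB

/-!
# The subgroups of the Thompson group containing a Sylow 5-subgroup (helper840)

`|T| k(T) ≤ |Th|` for a proper subgroup `T` of order prime to 31 containing a Sylow 5-subgroup.
-/

set_option autoImplicit false

namespace Cfsg.Agent.H840.S8.ThB

open Cfsg Subgroup MulAction Cfsg.Agent.H49.ThFive

universe u

/-- fixed points of an element of prime order on a subgroup which it normalizes -/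
theorem exists_comm {S : Type u} [Group S] [Finite S] {p : ℕ} (hp : p.Prime) {f : S} (hf : orderOf f = p) {V : Subgroup S}
    (hn : f ∈ normalizer (V : Set S)) (hV : Nat.card V % p ≠ 1) : ∃ v ∈ V, v ≠ 1 ∧ v * f = f * v := by
  have := Fact.mk hp
  by_contra hno
  push Not at hno
  have hmem : ∀ g ∈ zpowers f, ∀ c ∈ V, g * c * g⁻¹ ∈ V := by
    intro g hg c hc
    exact (mem_normalizer_iff.1 ((zpowers_le.2 hn) hg) c).1 hc
  let act : MulAction (zpowers f) V :=
    { smul := fun g c => ⟨(g : S) * c * (g : S)⁻¹, hmem g g.2 c c.2⟩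
      one_smul := by
        intro c
        apply Subtype.ext
        show (1 : S) * c * (1 : S)⁻¹ = c
        group
      mul_smul := by
        intro g h c
        apply Subtype.ext
        show ((g : S) * h) * c * ((g : S) * h)⁻¹ = g * (h * c * (h : S)⁻¹) * (g : S)⁻¹
        group }
  have hpg : IsPGroup p (zpowers f) := IsPGroup.of_card (n := 1) (by rw [Nat.card_zpowers, hf, pow_one])
  have h1 := hpg.card_modEq_card_fixedPoints V
  have h2 : Nat.card (fixedPoints (zpowers f) V) = 1 := by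
    rw [Nat.card_eq_one_iff_unique]
    refine ⟨⟨?_⟩, ⟨⟨1, ?_⟩⟩⟩
    · have key : ∀ c : fixedPoints (zpowers f) V, ((c : V) : S) = 1 := by
        intro c
        by_contra hc
        refine hno _ (c : V).2 hc ?_
        have h3 := c.2 ⟨f, mem_zpowers f⟩
        have h4 : f * (c : V) * f⁻¹ = (c : V) := congrArg Subtype.val h3
        exact (mul_inv_eq_iff_eq_mul.1 h4).symm
      intro c d
      exact Subtype.ext (Subtype.ext ((key c).trans (key d).symm))
    · intro g
      apply Subtype.ext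
      show (g : S) * (1 : S) * (g : S)⁻¹ = 1
      group
  rw [h2] at h1
  apply hV
  rw [show Nat.card V % p = 1 % p from h1, Nat.mod_eq_of_lt hp.one_lt]

/-- a subgroup of order prime to 5 and a 5-subgroup -/
theorem inf_bot {S : Type u} [Group S] {V P : Subgroup S} {k : ℕ} (hV : ¬ 5 ∣ Nat.card V) (hP : Nat.card P ∣ 5 ^ k) :
    V ⊓ P = ⊥ := by
  apply Subgroup.eq_bot_of_card_eq
  have h3 : Nat.card ↥(V ⊓ P) ∣ Nat.card V := card_dvd_of_le inf_le_left
  have h4 : Nat.card ↥(V ⊓ P) ∣ 5 ^ k := (card_dvd_of_le inf_le_right).trans hP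
  have h6 : (Nat.card V).Coprime (5 ^ k) :=
    Nat.Coprime.pow_right k ((Nat.Prime.coprime_iff_not_dvd (by norm_num)).2 hV).symm
  exact Nat.dvd_one.1 (h6 ▸ Nat.dvd_gcd h3 h4)

section

variable {K : Type u} [Group K] [Finite K] {x y z a : K} (D : Dat x y z a)
include D

/-- the elements centralizing `P` -/
theorem cent_PP {g : K} (hg : ∀ u ∈ PP x y z, g * u = u * g) : g ∈ PP x y z := by
  have hgz : g * z = z * g := hg z D.zP
  have h0 : (⟨g, mem_centralizer_singleton_iff.2 hgz⟩ : ↥(centralizer ({z} : Set K))) ∈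
      centralizer ((PP (H := ↥(centralizer ({z} : Set K))) ⟨x, mem_centralizer_singleton_iff.2 D.xz⟩
        ⟨y, mem_centralizer_singleton_iff.2 D.yz⟩ ⟨z, mem_centralizer_singleton_iff.2 rfl⟩ :
          Subgroup ↥(centralizer ({z} : Set K))) : Set ↥(centralizer ({z} : Set K))) := by
    rw [mem_centralizer_iff]
    intro u hu
    apply Subtype.ext
    show (u : K) * g = g * u
    refine (hg _ ?_).symm
    rw [← D.map_PP]
    exact ⟨u, hu, rfl⟩
  have h1 := H193.K6.ThFive.cent_le D.loc D.card_C h0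
  rw [← D.map_PP]
  exact ⟨_, h1, rfl⟩

/-- the elements of order 5 commuting with `z` -/
theorem mem_PP {w : K} (hw : w ^ 5 = 1) (hwz : w * z = z * w) : w ∈ PP x y z := by
  have hp := Fact.mk Nat.prime_five
  have h1 : IsPGroup 5 ↥(zpowers (⟨w, mem_centralizer_singleton_iff.2 hwz⟩ : ↥(centralizer ({z} : Set K)))) := by
    have h0 : orderOf (⟨w, mem_centralizer_singleton_iff.2 hwz⟩ : ↥(centralizer ({z} : Set K))) ∣ 5 ^ 1 := by
      rw [Subgroup.orderOf_mk, pow_one]
      exact orderOf_dvd_of_pow_eq_one hw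
    obtain ⟨m, -, hm⟩ := (Nat.dvd_prime_pow (by norm_num : Nat.Prime 5)).1 h0
    exact IsPGroup.of_card (n := m) (by rw [Nat.card_zpowers, hm])
  obtain ⟨N, hN⟩ := D.loc.exists_LC
  have hn := hN.P_normal
  have h2 := D.loc.le_P h1 (by rw [Subgroup.normalizer_eq_top_iff.2 hn]; exact le_top)
  rw [← D.map_PP]
  exact ⟨_, h2 (mem_zpowers _), rfl⟩

/-- **a subgroup of order prime to 5 normalized by `T ≥ P` is trivial** -/
theorem normal_bot {V T : Subgroup K} (hVn : ∀ g ∈ T, ∀ v ∈ V, g * v * g⁻¹ ∈ V) (hPM : PP x y z ≤ T)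
    (hVc : ¬ 5 ∣ Nat.card V) : V = ⊥ := by
  have := Fact.mk Nat.prime_five
  have hVP : V ⊓ PP x y z = ⊥ := inf_bot (k := 3) hVc (by rw [D.card_P]; norm_num)
  have hz1 : ∀ v ∈ V, v * z = z * v → v = 1 := by
    intro v hv hvz
    have h1 : ∀ u ∈ PP x y z, v * u = u * v := by
      intro u hu
      have h2 : v * u * v⁻¹ * u⁻¹ ∈ V ⊓ PP x y z := by
        constructor
        · have h3 : v * u * v⁻¹ * u⁻¹ = v * (u * v⁻¹ * u⁻¹) := by group
          rw [h3]
          exact V.mul_mem hv (hVn u (hPM hu) _ (V.inv_mem hv))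
        · exact (PP x y z).mul_mem (D.norm hvz hu) ((PP x y z).inv_mem hu)
      rw [hVP, mem_bot] at h2
      have h3 : v * u * v⁻¹ * u⁻¹ * (u * v) = v * u := by group
      rw [← h3, h2, one_mul]
    have h2 : v ∈ V ⊓ PP x y z := ⟨hv, cent_PP D h1⟩
    rw [hVP, mem_bot] at h2
    exact h2
  -- all elements of order 5 commuting with `z`
  have hu1 : ∀ u : K, orderOf u = 5 → u * z = z * u → ∀ v ∈ V, v * u = u * v → v = 1 := by
    intro u huo huz v hv hvu
    obtain ⟨k, hk⟩ := D.all huo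
    have e1 : k * z * k⁻¹ * (k * u * k⁻¹) = k * u * k⁻¹ * (k * z * k⁻¹) := by
      calc k * z * k⁻¹ * (k * u * k⁻¹) = k * (z * u) * k⁻¹ := by group
        _ = k * (u * z) * k⁻¹ := by rw [huz]
        _ = _ := by group
    have e2 : k * v * k⁻¹ * (k * u * k⁻¹) = k * u * k⁻¹ * (k * v * k⁻¹) := by
      calc k * v * k⁻¹ * (k * u * k⁻¹) = k * (v * u) * k⁻¹ := by group
        _ = k * (u * v) * k⁻¹ := by rw [hvu]
        _ = _ := by group
    rw [hk] at e1 e2
    have hz5 : z ^ 5 = 1 := by rw [← D.oz, pow_orderOf_eq_one]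
    have h1 : k * z * k⁻¹ ∈ PP x y z := mem_PP D (by rw [conj_pow, hz5, mul_one, mul_inv_cancel]) e1
    have h2 : k * v * k⁻¹ * (k * z * k⁻¹) * (k * v * k⁻¹)⁻¹ * (k * z * k⁻¹)⁻¹ ∈ PP x y z :=
      (PP x y z).mul_mem (D.norm e2 h1) ((PP x y z).inv_mem h1)
    have h3 : k * v * k⁻¹ * (k * z * k⁻¹) * (k * v * k⁻¹)⁻¹ * (k * z * k⁻¹)⁻¹ = k * (v * z * v⁻¹ * z⁻¹) * k⁻¹ := by
      group
    rw [h3] at h2
    have h4 : (v * z * v⁻¹ * z⁻¹) ^ 5 = 1 := by
      have h5 := D.exp h2
      rw [conj_pow] at h5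
      exact conj_eq_one_iff.1 h5
    have h5 : v * z * v⁻¹ * z⁻¹ ∈ V := by
      have h6 : v * z * v⁻¹ * z⁻¹ = v * (z * v⁻¹ * z⁻¹) := by group
      rw [h6]
      exact V.mul_mem hv (hVn z (hPM D.zP) _ (V.inv_mem hv))
    have h6 : v * z * v⁻¹ * z⁻¹ = 1 := by
      by_contra hne
      exact hVc ((orderOf_eq_prime h4 hne) ▸ Subgroup.orderOf_dvd_natCard V h5)
    apply hz1 v hv
    have h7 : v * z * v⁻¹ * z⁻¹ * (z * v) = v * z := by group
    rw [← h7, h6, one_mul]
  -- the group `E`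
  obtain ⟨E, hE⟩ : ∃ E : Subgroup K, E = closure {y, z} := ⟨_, rfl⟩
  have hEP : E ≤ PP x y z := by
    rw [hE, closure_le]
    rintro u (rfl | rfl)
    · exact D.yP
    · exact D.zP
  have hyE : y ∈ E := by rw [hE]; exact subset_closure (by simp)
  have hzE : z ∈ E := by rw [hE]; exact subset_closure (by simp)
  have hEc : ∀ u ∈ E, ∀ v ∈ E, u * v = v * u := by
    have h1 : E ≤ centralizer (E : Set K) := by
      conv_lhs => rw [hE]
      rw [closure_le]
      have h2 : ∀ u : K, (u * y = y * u ∧ u * z = z * u) → u ∈ centralizer (E : Set K) := by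
        rintro u ⟨h3, h4⟩
        have h5 : E ≤ centralizer ({u} : Set K) := by
          rw [hE, closure_le]
          rintro v (rfl | rfl)
          · exact mem_centralizer_singleton_iff.2 h3.symm
          · exact mem_centralizer_singleton_iff.2 h4.symm
        rw [mem_centralizer_iff]
        intro v hv
        exact mem_centralizer_singleton_iff.1 (h5 hv)
      rintro u (rfl | rfl)
      · exact h2 _ ⟨rfl, D.yz⟩
      · exact h2 _ ⟨D.yz.symm, rfl⟩
    intro u hu v hv
    exact (mem_centralizer_iff.1 (h1 hu) v hv).symm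
  have hEcomm : IsMulCommutative E := ⟨⟨fun u v => Subtype.ext (hEc u u.2 v v.2)⟩⟩
  have hEnc : ¬ IsCyclic E := by
    intro h
    obtain ⟨⟨u, hu⟩, hgen⟩ := h.exists_generator
    have h1 : orderOf (⟨u, hu⟩ : E) = Nat.card E := orderOf_eq_card_of_forall_mem_zpowers hgen
    have h2 : orderOf (⟨u, hu⟩ : E) ∣ 5 := orderOf_dvd_of_pow_eq_one (Subtype.ext (D.exp (hEP hu)))
    have h3 : zpowers z = E := by
      apply Subgroup.eq_of_le_of_card_ge (zpowers_le.2 hzE)
      rw [Nat.card_zpowers, D.oz, ← h1]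
      exact Nat.le_of_dvd (by norm_num) h2
    rw [← h3] at hyE
    obtain ⟨k, hk⟩ := hyE
    have hk' : z ^ k = y := hk
    apply D.xy_ne
    rw [← hk']
    exact (show Commute x z from D.xz).zpow_right k
  have hEV : E ≤ normalizer (V : Set K) := by
    intro u hu
    have huM := hPM (hEP hu)
    rw [mem_normalizer_iff]
    intro v
    refine ⟨hVn u huM v, fun hv => ?_⟩
    have h1 := hVn u⁻¹ (T.inv_mem huM) _ hv
    have h2 : u⁻¹ * (u * v * u⁻¹) * u⁻¹⁻¹ = v := by group
    rwa [h2] at h1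
  have hcop : (Nat.card E).Coprime (Nat.card V) := by
    have h1 : Nat.card E ∣ 5 ^ 3 := by
      have := card_dvd_of_le hEP
      rw [D.card_P] at this
      exact this
    exact (Nat.Coprime.pow_left 3 ((Nat.Prime.coprime_iff_not_dvd (by norm_num : Nat.Prime 5)).2 hVc)).coprime_dvd_left h1
  have hgen := S0058.result E V hEnc hEV hcop
  rw [← hgen, eq_bot_iff]
  refine iSup₂_le ?_
  rintro u ⟨huE, hu1'⟩
  have huo : orderOf u = 5 := orderOf_eq_prime (D.exp (hEP huE)) hu1'
  rintro v ⟨hv, hvu⟩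
  rw [mem_bot]
  exact hu1 u huo (hEc u huE z hzE) v hv (mem_centralizer_singleton_iff.1 hvu)

/-- all centralizers of elements of order 5 have order 3000 -/
theorem card_cent {g : K} (hg : orderOf g = 5) : Nat.card (centralizer ({g} : Set K)) = 3000 := by
  obtain ⟨k, hk⟩ := D.all hg
  rw [← D.card_C]
  refine Nat.card_congr (((MulAut.conj k).subgroupMap (centralizer ({g} : Set K))).toEquiv.trans (Equiv.setCongr ?_))
  ext w
  simp only [SetLike.mem_coe, mem_map, mem_centralizer_singleton_iff]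
  constructor
  · rintro ⟨v, hv, rfl⟩
    show k * v * k⁻¹ * z = z * (k * v * k⁻¹)
    rw [← hk]
    calc k * v * k⁻¹ * (k * g * k⁻¹) = k * (v * g) * k⁻¹ := by group
      _ = k * (g * v) * k⁻¹ := by rw [hv]
      _ = _ := by group
  · intro hw
    refine ⟨k⁻¹ * w * k, ?_, ?_⟩
    · have h2 : g = k⁻¹ * z * k := by rw [← hk]; group
      rw [h2]
      calc k⁻¹ * w * k * (k⁻¹ * z * k) = k⁻¹ * (w * z) * k := by group
        _ = k⁻¹ * (z * w) * k := by rw [hw]
        _ = _ := by group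
    · show k * (k⁻¹ * w * k) * k⁻¹ = w
      group

/-- **the orbit count** -/
theorem card_le {N T : Subgroup K} (hN : ∀ g ∈ T, ∀ v ∈ N, g * v * g⁻¹ ∈ N) (h5 : 5 ∣ Nat.card N) :
    Nat.card T ≤ 3000 * Nat.card N := by
  have := Fact.mk Nat.prime_five
  obtain ⟨g, hg⟩ := exists_prime_orderOf_dvd_card' (G := N) 5 h5
  have hgo : orderOf (g : K) = 5 := by rw [Subgroup.orderOf_coe, hg]
  let act : MulAction T K := MulAction.compHom K (MulAut.conj.comp T.subtype)
  have h1 : MulAction.orbit T (g : K) ⊆ (N : Set K) := by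
    rintro _ ⟨t, rfl⟩
    exact hN t t.2 g g.2
  have h2 : Nat.card (MulAction.stabilizer T (g : K)) ≤ 3000 := by
    rw [← card_cent D hgo]
    refine Nat.card_le_card_of_injective
      (fun t : MulAction.stabilizer T (g : K) => (⟨((t : T) : K), ?_⟩ : centralizer ({(g : K)} : Set K))) ?_
    · have h3 : ((t : T) : K) * g * ((t : T) : K)⁻¹ = g := t.2
      exact mem_centralizer_singleton_iff.2 (mul_inv_eq_iff_eq_mul.1 h3)
    · intro s t hst
      have h4 : ((s : T) : K) = ((t : T) : K) := congrArg (fun w : ↥(centralizer ({(g : K)} : Set K)) => (w : K)) hst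
      exact Subtype.ext (Subtype.ext h4)
  have h3 : (MulAction.orbit T (g : K)).ncard ≤ Nat.card N := Set.ncard_le_ncard h1 (Set.toFinite _)
  have h4 := Subgroup.card_mul_index (MulAction.stabilizer T (g : K))
  rw [MulAction.index_stabilizer] at h4
  rw [← h4]
  exact Nat.mul_le_mul h2 h3

end

/-! ### minimal normal subgroups -/

/-- Frattini: a prime `t` dividing `|N|`, no element of order 5 normalizes a nontrivial `t`-subgroup -/
theorem frattini {T : Type u} [Group T] [Finite T] (N : Subgroup T) [N.Normal] {t : ℕ} (ht : t.Prime) (htN : t ∣ Nat.card N)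
    (h5 : ∀ V : Subgroup T, IsPGroup t V → V ≠ ⊥ → ¬ 5 ∣ Nat.card (normalizer (V : Set T))) (h125 : 125 ∣ Nat.card T) :
    125 ∣ Nat.card N := by
  have := Fact.mk ht
  obtain ⟨P⟩ : Nonempty (Sylow t N) := inferInstance
  have h1 := Sylow.normalizer_sup_eq_top (P := P) (N := N)
  obtain ⟨V, hV⟩ : ∃ V : Subgroup T, V = (P : Subgroup N).map N.subtype := ⟨_, rfl⟩
  have hVne : V ≠ ⊥ := by
    rw [hV, Ne, Subgroup.map_eq_bot_iff_of_injective _ (subtype_injective _)]
    exact P.ne_bot_of_dvd_card htN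
  have h2 := h5 V (by rw [hV]; exact P.isPGroup'.map _) hVne
  have h3 : N.index ∣ Nat.card (normalizer (V : Set T)) := by
    rw [← relIndex_top_right, ← h1, relIndex_sup_right, hV]
    exact relIndex_dvd_card _ _
  have h4 : Nat.Coprime 125 N.index := by
    rw [show 125 = 5 ^ 3 by norm_num]
    exact Nat.Coprime.pow_left 3 ((Nat.Prime.coprime_iff_not_dvd Nat.prime_five).2 fun h => h2 (h.trans h3))
  rw [← card_mul_index N] at h125
  exact h4.dvd_of_dvd_mul_right h125

/-! ### the Thompson group -/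

abbrev G : Type := Cfsg.Spor.Th

/-- no element of order 5 normalizes a nontrivial `t`-subgroup -/
theorem no5 {T : Subgroup G} {t : ℕ} (ht : t.Prime) (h3 : ¬ t ∣ 3000)
    (he : ∀ k, 0 < k → t ^ k ∣ Nat.card G → t ^ k % 5 ≠ 1) (V : Subgroup T) (hV : IsPGroup t V) (hne : V ≠ ⊥) :
    ¬ 5 ∣ Nat.card (normalizer (V : Set T)) := by
  have hfG : Finite G := H444.ThLoc.fin
  have := Fact.mk Nat.prime_five
  have := Fact.mk ht
  intro h5
  obtain ⟨g, hg⟩ := exists_prime_orderOf_dvd_card' (G := normalizer (V : Set T)) 5 h5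
  have hg' : orderOf (g : T) = 5 := by rw [Subgroup.orderOf_coe, hg]
  have hVt : Nontrivial V := (nontrivial_iff_ne_bot V).2 hne
  obtain ⟨k, hk, hk'⟩ := (IsPGroup.nontrivial_iff_card hV).1 hVt
  obtain ⟨v, hvV, hv1, hvg⟩ := exists_comm Nat.prime_five hg' g.2 (V := V) (by
    rw [hk']
    refine he k hk ?_
    rw [← hk']
    exact (card_subgroup_dvd_card V).trans (card_subgroup_dvd_card T))
  obtain ⟨j, hj⟩ := hV ⟨v, hvV⟩
  have hj' : v ^ t ^ j = 1 := congrArg Subtype.val hj
  obtain ⟨i, -, hi⟩ := (Nat.dvd_prime_pow ht).1 (orderOf_dvd_of_pow_eq_one hj')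
  have hi0 : i ≠ 0 := by
    rintro rfl
    rw [pow_zero, orderOf_eq_one_iff] at hi
    exact hv1 hi
  obtain ⟨i', rfl⟩ := Nat.exists_eq_succ_of_ne_zero hi0
  have hw : orderOf (v ^ t ^ i') = t := by
    rw [orderOf_pow, hi, Nat.gcd_eq_right (pow_dvd_pow t (Nat.le_succ i')), Nat.succ_eq_add_one, pow_succ,
      Nat.mul_div_cancel_left _ (Nat.pow_pos ht.pos)]
  have hw' : orderOf ((v ^ t ^ i' : T) : G) = t := by rw [Subgroup.orderOf_coe, hw]
  refine H502.TO.not_dvd_five ht h3 hw' ?_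
  have hc : (g : T) * v ^ t ^ i' = v ^ t ^ i' * (g : T) := ((show Commute v (g : T) from hvg).pow_left _).symm.eq
  have h6 : ((g : T) : G) ∈ centralizer ({((v ^ t ^ i' : T) : G)} : Set G) :=
    mem_centralizer_singleton_iff.2 (congrArg Subtype.val hc)
  have h7 := Subgroup.orderOf_dvd_natCard _ h6
  rwa [Subgroup.orderOf_coe, hg'] at h7

theorem pw7 : ∀ k, 0 < k → 7 ^ k ∣ Nat.card G → 7 ^ k % 5 ≠ 1 := by
  intro k hk hd
  by_cases h3 : 3 ≤ k
  · rw [H444.ThLoc.card] at hd
    exact absurd ((pow_dvd_pow 7 h3).trans hd) (by decide +kernel)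
  · interval_cases k <;> norm_num

theorem pw13 : ∀ k, 0 < k → 13 ^ k ∣ Nat.card G → 13 ^ k % 5 ≠ 1 := by
  intro k hk hd
  by_cases h3 : 2 ≤ k
  · rw [H444.ThLoc.card] at hd
    exact absurd ((pow_dvd_pow 13 h3).trans hd) (by decide +kernel)
  · interval_cases k; norm_num

theorem pw19 : ∀ k, 0 < k → 19 ^ k ∣ Nat.card G → 19 ^ k % 5 ≠ 1 := by
  intro k hk hd
  by_cases h3 : 2 ≤ k
  · rw [H444.ThLoc.card] at hd
    exact absurd ((pow_dvd_pow 19 h3).trans hd) (by decide +kernel)
  · interval_cases k; norm_num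

theorem key1 : ∀ s ∈ H940.Eng.D.o_th, s ≤ 262080 ∨ 31 ∣ s ∨ ((7 ∣ s ∨ 13 ∣ s ∨ 19 ∣ s) ∧ ¬ 125 ∣ s) := by
  decide +kernel

theorem key2 : ∀ s ∈ H940.Eng.D.o_th, s ∣ 3000 → s ≤ 60 := by
  decide +kernel

/-- **the minimal normal subgroups** -/
theorem card_min (B : H940.Eng.Base) {x y z a : G} [Finite G] (D : Dat x y z a) {T : Subgroup G} (hPT : PP x y z ≤ T)
    (h31 : ¬ 31 ∣ Nat.card T) {N : Subgroup T} [hNn : N.Normal] (hN : N ≠ ⊥)
    (hmin : ∀ M : Subgroup T, M.Normal → M ≤ N → M = ⊥ ∨ M = N) : 5 ∣ Nat.card N ∧ Nat.card N ≤ 262080 := by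
  obtain ⟨S, m, hSN, hSs, hm, ⟨e⟩⟩ := Lib.MinNormal.exists_mulEquiv_pi N hN hmin
  have hcN : Nat.card N = Nat.card S ^ m := by
    rw [Nat.card_congr e.toEquiv, Nat.card_fun, Nat.card_fin]
  have hdG : Nat.card N ∣ Nat.card G := (card_subgroup_dvd_card N).trans (card_subgroup_dvd_card T)
  have h5N : 5 ∣ Nat.card N := by
    by_contra h5
    apply hN
    have h1 : N.map T.subtype = ⊥ := by
      refine normal_bot D (T := T) ?_ hPT ?_
      · rintro g hg _ ⟨v, hv, rfl⟩
        exact ⟨⟨g, hg⟩ * v * ⟨g, hg⟩⁻¹, hNn.conj_mem v hv _, rfl⟩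
      · rwa [Subgroup.card_map_of_injective (subtype_injective _)]
    rwa [Subgroup.map_eq_bot_iff_of_injective _ (subtype_injective _)] at h1
  refine ⟨h5N, ?_⟩
  have h5S : 5 ∣ Nat.card S := Nat.prime_five.dvd_of_dvd_pow (hcN ▸ h5N)
  have hm3 : m ≤ 3 := by
    by_contra hm4
    have h1 : 5 ^ 4 ∣ Nat.card G := ((pow_dvd_pow 5 (by omega : 4 ≤ m)).trans (pow_dvd_pow_of_dvd h5S m)).trans (hcN ▸ hdG)
    rw [H444.ThLoc.card] at h1
    exact absurd h1 (by decide +kernel)
  have hSd : Nat.card S ∣ Nat.card G := (card_subgroup_dvd_card S).trans (card_subgroup_dvd_card T)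
  have hSN' : Nat.card S ∣ Nat.card N := card_dvd_of_le hSN
  by_cases hab : ∀ a b : S, a * b = b * a
  · have hp : (Nat.card S).Prime := by
      let _ : CommGroup S := { (inferInstance : Group S) with mul_comm := hab }
      exact IsSimpleGroup.prime_card
    have h5 : Nat.card S = 5 := ((Nat.prime_dvd_prime_iff_eq Nat.prime_five hp).1 h5S).symm
    rw [hcN, h5]
    calc 5 ^ m ≤ 5 ^ 3 := Nat.pow_le_pow_right (by norm_num) hm3
      _ ≤ 262080 := by norm_num
  · have hmem : Nat.card S ∈ H940.Eng.D.o_th :=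
      H940.Eng.D.ords_th B S hSs hab (by rw [← H444.ThLoc.card]; exact hSd)
    by_cases hm1 : m = 1
    · subst hm1
      rw [pow_one] at hcN
      rcases key1 _ hmem with h | h | ⟨h, h'⟩
      · rw [hcN]; exact h
      · exact absurd (h.trans (card_subgroup_dvd_card S)) h31
      · exfalso
        apply h'
        rw [← hcN] at h ⊢
        have h125 : 125 ∣ Nat.card T := by
          rw [← D.card_P]
          exact card_dvd_of_le hPT
        rcases h with h | h | h
        · exact frattini N (by norm_num) h (no5 (by norm_num) (by norm_num) pw7) h125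
        · exact frattini N (by norm_num) h (no5 (by norm_num) (by norm_num) pw13) h125
        · exact frattini N (by norm_num) h (no5 (by norm_num) (by norm_num) pw19) h125
    · -- two commuting factors
      have := Fact.mk Nat.prime_five
      obtain ⟨u, hu⟩ := exists_prime_orderOf_dvd_card' (G := S) 5 h5S
      obtain ⟨i0, hi0⟩ : ∃ i : Fin m, i = ⟨0, hm⟩ := ⟨_, rfl⟩
      obtain ⟨i1, hi1⟩ : ∃ i : Fin m, i = ⟨1, by omega⟩ := ⟨_, rfl⟩
      have hne : i0 ≠ i1 := by
        rw [hi0, hi1]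
        intro h
        exact absurd (congrArg Fin.val h) (by norm_num)
      obtain ⟨φ, hφ⟩ : ∃ φ : Fin m → S →* G, φ = fun i => T.subtype.comp (N.subtype.comp
        (e.symm.toMonoidHom.comp (MonoidHom.mulSingle (fun _ : Fin m => S) i))) := ⟨_, rfl⟩
      have hinj : ∀ i, Function.Injective (φ i) := by
        intro i
        rw [hφ]
        exact (subtype_injective T).comp ((subtype_injective N).comp (e.symm.injective.comp (Pi.mulSingle_injective (M := fun _ : Fin m => S) i)))
      have hg : orderOf (φ i1 u) = 5 := by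
        rw [orderOf_injective _ (hinj i1), hu]
      have hle : (φ i0).range ≤ centralizer ({φ i1 u} : Set G) := by
        rintro _ ⟨s, rfl⟩
        rw [mem_centralizer_singleton_iff]
        have h1 : (Pi.mulSingle i0 s : Fin m → S) * Pi.mulSingle i1 u = Pi.mulSingle i1 u * Pi.mulSingle i0 s :=
          (Pi.mulSingle_commute (f := fun _ : Fin m => S) hne s u).eq
        rw [hφ]
        show ((((e.symm (Pi.mulSingle i0 s) : N) : T) : G)) * (((e.symm (Pi.mulSingle i1 u) : N) : T) : G) =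
          (((e.symm (Pi.mulSingle i1 u) : N) : T) : G) * (((e.symm (Pi.mulSingle i0 s) : N) : T) : G)
        have h2 : e.symm (Pi.mulSingle i0 s) * e.symm (Pi.mulSingle i1 u) =
            e.symm (Pi.mulSingle i1 u) * e.symm (Pi.mulSingle i0 s) := by
          rw [← map_mul, h1, map_mul]
        exact congrArg (fun w : N => ((w : T) : G)) h2
      have h1 := card_dvd_of_le hle
      rw [card_cent D hg, Nat.card_congr (MonoidHom.ofInjective (hinj i0)).toEquiv.symm] at h1
      have h2 := key2 _ hmem h1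
      rw [hcN]
      calc Nat.card S ^ m ≤ 60 ^ 3 := (Nat.pow_le_pow_left h2 m).trans (Nat.pow_le_pow_right (by norm_num) hm3)
        _ ≤ 262080 := by norm_num

/-- **Step B** -/
theorem stepB (B : H940.Eng.Base) {x y z a : G} [Finite G] (D : Dat x y z a) {T : Subgroup G} (hPT : PP x y z ≤ T)
    (h31 : ¬ 31 ∣ Nat.card T) : Nat.card T * Nat.card (ConjClasses T) ≤ Nat.card G := by
  have hTt : Nontrivial T := by
    rw [nontrivial_iff_ne_bot]
    intro h
    have h1 := card_dvd_of_le hPT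
    rw [D.card_P, h, Subgroup.card_bot] at h1
    norm_num at h1
  obtain ⟨N, -, hN, hNn', hmin'⟩ := Lib.MinNormal.exists_minimal_normal_le (⊤ : Subgroup T) top_ne_bot
  have hNn : N.Normal := normalizer_eq_top_iff.1 (top_le_iff.1 hNn')
  have hmin : ∀ M : Subgroup T, M.Normal → M ≤ N → M = ⊥ ∨ M = N := fun M hM hMN =>
    hmin' M hMN (by rw [normalizer_eq_top_iff.2 hM])
  obtain ⟨h5N, hNc⟩ := card_min B D hPT h31 hN hmin
  have hcN : Nat.card (N.map T.subtype) = Nat.card N := Subgroup.card_map_of_injective (subtype_injective _)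
  have hT : Nat.card T ≤ 3000 * Nat.card N := by
    rw [← hcN]
    refine card_le D ?_ (by rw [hcN]; exact h5N)
    rintro g hg _ ⟨v, hv, rfl⟩
    exact ⟨⟨g, hg⟩ * v * ⟨g, hg⟩⁻¹, hNn.conj_mem v hv _, rfl⟩
  have hT' : Nat.card T ≤ 786240000 := by omega
  have h5T : 5 ∣ Nat.card T := h5N.trans (card_subgroup_dvd_card N)
  -- the number of classes
  have := Fact.mk Nat.prime_five
  obtain ⟨w, hw⟩ := exists_prime_orderOf_dvd_card' (G := T) 5 h5T
  have h1 := H670.S8.nd_step (T := T) (P := 1) Nat.prime_five (Nat.coprime_one_right 5) hw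
  have h2 := H670.S8.nd_mul_le (T := T) (P := 1 * 5)
  have h3 : Nat.card (centralizer ({w} : Set T)) ≤ 3000 := by
    have h4 := Nat.le_of_dvd Nat.card_pos (H670.S8.card_cent_sub T w)
    rwa [card_cent D (by rw [Subgroup.orderOf_coe, hw])] at h4
  rw [H670.S8.nd_one] at h1
  have h5 : Nat.card (ConjClasses T) * 25 ≤ 75000 + Nat.card T := by
    have h6 : H670.S8.nd T (1 * 5) * 25 ≤ Nat.card T := by
      simpa using h2
    omega
  have h6 : Nat.card T * Nat.card (ConjClasses T) * 25 ≤ Nat.card G * 25 := by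
    calc Nat.card T * Nat.card (ConjClasses T) * 25 = Nat.card T * (Nat.card (ConjClasses T) * 25) := by ring
      _ ≤ 786240000 * (75000 + 786240000) := Nat.mul_le_mul hT' (h5.trans (Nat.add_le_add_left hT' _))
      _ ≤ Nat.card G * 25 := by
        rw [H444.ThLoc.card]
        decide +kernel
  exact Nat.le_of_mul_le_mul_right h6 (by norm_num)

end Cfsg.Agent.H840.S8.ThB
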