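import Cfsg.Agent.H840.S8.Heis
import Cfsg.Agent.H840.S8.ThB
import Cfsg.Agent.H946.S8.ThA
import Cfsg.Agent.H704.S8.Defs
import Cfsg.Agent.H546.S8.Tools

/-!
# The row CHIEF (FROB) of S4908 for the Thompson group (helper840)

Let `Th` act on an abelian group `Λ ≠ 1`, all stabilizers `T` of elements `≠ 1` with `|Th| < |T| k(T)`. No stabilizer has
order divisible by 31 (`stepA_of`); from the Frobenius group `31 : 5` we get `|C_Λ(s)| ^ 5 = |Λ|` for all elements `s` of
order 5, so the extraspecial Sylow 5-subgroup has a fixed point `≠ 1` (`heis`), against `stepB`.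
-/

set_option autoImplicit false

namespace Cfsg.Agent.H840.S8.ThFrob

open Cfsg Subgroup Cfsg.Agent.H940.Eng Cfsg.Agent.H704.S8 Cfsg.Agent.H49.ThFive

universe u v

/-- **the row CHIEF** -/
theorem chief (B : Base) (D : Set ℕ) : Chief.{u} 1 D Spor.Th := by
  intro Λ _ _ ρ h
  by_contra hne
  push Not at hne
  obtain ⟨x0, hx0⟩ := hne
  have : Nontrivial Λ := ⟨⟨x0, 1, hx0⟩⟩
  have hp := Fact.mk Nat.prime_five
  have hfinG : Finite Spor.Th := H444.ThLoc.fin
  have h31p : Nat.Prime 31 := by norm_num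
  have := Fact.mk h31p
  -- stabilizers
  have hstab : ∀ l : Λ, l ≠ 1 → ∀ T : Subgroup Spor.Th, (∀ g ∈ T, ρ g l = l) →
      ¬ 31 ∣ Nat.card T := by
    intro l hl T hT h31
    obtain ⟨T', h1, h2, h3, -⟩ := h l hl
    have hle : T ≤ T' := fun g hg => (h1 g).2 (hT g hg)
    have h4 := H946.S8.ThA.stepA_of B T' h2 (h31.trans (card_dvd_of_le hle))
    omega
  -- the Frobenius group
  obtain ⟨w, hw⟩ : ∃ w : Spor.Th, w = H444.ThWord.w := ⟨_, rfl⟩
  obtain ⟨f, hf⟩ : ∃ f : Spor.Th, f = H444.ThWord.f := ⟨_, rfl⟩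
  have hw31 : Nat.card (zpowers w) = 31 := by rw [hw]; exact H444.ThLoc.card_w
  have hf5 : orderOf f = 5 := by rw [hf]; exact H444.ThWord.f_order
  have hfw : f⁻¹ * w * f ∈ zpowers w := by rw [hw, hf]; exact H444.ThLoc.f_conj
  have hfr : Nat.card (Fx ρ f⁻¹) ^ orderOf f⁻¹ = Nat.card Λ := by
    refine frob ρ (P := zpowers w) ?_ ?_ ?_ ?_
    · intro g hg
      obtain ⟨k, rfl⟩ := mem_zpowers_iff.1 hg
      rw [← conj_zpow]
      refine zpow_mem ?_ k
      rw [inv_inv]
      exact hfw
    · intro g hg hg1 u hu hgu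
      by_contra hu1
      have hgo : orderOf g = 5 := by
        have h1 : orderOf g ∣ 5 := by
          have h2 := Subgroup.orderOf_dvd_natCard _ hg
          rwa [Nat.card_zpowers, orderOf_inv, hf5] at h2
        rcases (Nat.dvd_prime Nat.prime_five).1 h1 with h2 | h2
        · exact absurd (orderOf_eq_one_iff.1 h2) hg1
        · exact h2
      have huo : orderOf u = 31 := by
        have h1 : orderOf u ∣ 31 := by
          rw [← hw31]
          exact Subgroup.orderOf_dvd_natCard _ hu
        rcases (Nat.dvd_prime h31p).1 h1 with h2 | h2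
        · exact absurd (orderOf_eq_one_iff.1 h2) hu1
        · exact h2
      have h1 : u ∈ centralizer ({g} : Set Spor.Th) := mem_centralizer_singleton_iff.2 hgu.symm
      have h2 := Subgroup.orderOf_dvd_natCard _ h1
      rw [huo, H502.TO.card_five hgo] at h2
      revert h2
      norm_num
    · exact (IsPGroup.of_card (p := 31) (n := 1) (by rw [hw31, pow_one])).isNilpotent
    · intro l hl
      by_contra hl1
      exact hstab l hl1 (zpowers w) hl (by rw [hw31])
  rw [orderOf_inv, hf5] at hfr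
  -- all elements of order 5
  obtain ⟨_, x, y, z, a, E⟩ := exists_dat
  have hall : ∀ s : Spor.Th, orderOf s = 5 → Nat.card (Fx ρ s) ^ 5 = Nat.card Λ := by
    intro s hs
    obtain ⟨g, hg⟩ := E.all hs
    obtain ⟨k, hk⟩ := E.all (u := f⁻¹) (by rw [orderOf_inv, hf5])
    rw [← hfr, ← card_Fx_conj ρ s g, hg, ← card_Fx_conj ρ f⁻¹ k, hk]
  -- the Sylow subgroup
  have hxy : x * y = y * x * z := congrArg Subtype.val E.loc.xy
  have hz1 : z ≠ 1 := by
    intro h1
    have h2 := E.oz
    rw [h1, orderOf_one] at h2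
    norm_num at h2
  obtain ⟨l, hl1, hl⟩ := heis ρ Nat.prime_five (S := PP x y z) rfl E.xz E.yz hxy (fun s hs => E.exp hs)
    (fun s hs hs1 => hall s (orderOf_eq_prime (E.exp hs) hs1)) hz1 (by
      intro j hj
      apply E.xy_ne
      have h1 : x = (z ^ j)⁻¹ := eq_inv_of_mul_eq_one_right hj
      rw [h1]
      exact ((show Commute y z from E.yz).pow_right j).inv_right.symm.eq) (by
      intro i j hj
      apply E.xy_ne
      have h1 : y = (z ^ j * x ^ i)⁻¹ := eq_inv_of_mul_eq_one_right (by rw [mul_assoc]; exact hj)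
      rw [h1]
      exact (((show Commute x z from E.xz).pow_right j).mul_right ((Commute.refl x).pow_right i)).inv_right.eq)
  obtain ⟨T, h1, h2, h3, -⟩ := h l hl1
  have hPT : PP x y z ≤ T := fun g hg => (h1 g).2 (hl g hg)
  have h4 := ThB.stepB B E hPT (hstab l hl1 T fun g hg => (h1 g).1 hg)
  have h5 : Nat.card T * Nat.card (ConjClasses T) ≤ Nat.card Spor.Th := h4
  omega

/-- **the row CHIEF for `Th`** -/
theorem chief_Th {X : Type v} [Group X] (B : Base) (h : Spor.IsoTh X) (D : Set ℕ) : Chief.{u} 1 D X := by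
  obtain ⟨e⟩ := h
  exact H546.S8.chief_congr e.symm (chief B D)

end Cfsg.Agent.H840.S8.ThFrob
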