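import Cfsg.Agent.H840.S8.Wiel
import Cfsg.Agent.H864.FrobOrder

/-!
# Fixed points of an extraspecial group of order `p ^ 3` (helper840)

* `frob` : `|Λ| = |C_Λ(Q)| ^ |Q|` for a Frobenius group `P Q` with `C_Λ(P) = 1`, `P` nilpotent;
* `heis` : if `|C_Λ(s)| ^ p = |Λ|` for all `s ≠ 1` in `S = ⟨x, y, z⟩`, `x y = y x z`, then `S` has nontrivial fixed points.
-/

set_option autoImplicit false

universe u v

namespace Cfsg.Agent.H840.S8

open Finset Subgroup

section

variable {X : Type v} [Group X] {Λ : Type u} [CommGroup Λ] [Finite Λ]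

/-- the fixed points of an element -/
def Fx (ρ : X →* MulAut Λ) (g : X) : Subgroup Λ where
  carrier := {l | ρ g l = l}
  one_mem' := map_one _
  mul_mem' := fun {a b} ha hb => by
    show ρ g (a * b) = a * b
    rw [map_mul, show ρ g a = a from ha, show ρ g b = b from hb]
  inv_mem' := fun {a} ha => by
    show ρ g a⁻¹ = a⁻¹
    rw [map_inv, show ρ g a = a from ha]

omit [Finite Λ] in
theorem mem_Fx {ρ : X →* MulAut Λ} {g : X} {l : Λ} : l ∈ Fx ρ g ↔ ρ g l = l := Iff.rfl

omit [Finite Λ] in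
/-- conjugate elements -/
theorem card_Fx_conj (ρ : X →* MulAut Λ) (g h : X) : Nat.card (Fx ρ (h * g * h⁻¹)) = Nat.card (Fx ρ g) := by
  refine Nat.card_congr
    { toFun := fun l => ⟨ρ h⁻¹ l, ?_⟩
      invFun := fun l => ⟨ρ h l, ?_⟩
      left_inv := fun l => Subtype.ext ?_
      right_inv := fun l => Subtype.ext ?_ }
  · have h1 : ρ (h * g * h⁻¹) l = l := l.2
    show ρ g (ρ h⁻¹ l) = ρ h⁻¹ l
    have h2 : ρ g (ρ h⁻¹ l) = ρ h⁻¹ (ρ (h * g * h⁻¹) l) := by
      rw [← MulAut.mul_apply, ← MulAut.mul_apply, ← map_mul, ← map_mul]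
      congr 2
      group
    rw [h2, h1]
  · have h1 : ρ g l = l := l.2
    show ρ (h * g * h⁻¹) (ρ h l) = ρ h l
    have h2 : ρ (h * g * h⁻¹) (ρ h l) = ρ h (ρ g l) := by
      rw [← MulAut.mul_apply, ← MulAut.mul_apply, ← map_mul, ← map_mul]
      congr 2
      group
    rw [h2, h1]
  · show ρ h (ρ h⁻¹ l) = l
    rw [← MulAut.mul_apply, ← map_mul, mul_inv_cancel, map_one, MulAut.one_apply]
  · show ρ h⁻¹ (ρ h l) = l
    rw [← MulAut.mul_apply, ← map_mul, inv_mul_cancel, map_one, MulAut.one_apply]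

/-- **the order formula for a Frobenius group with cyclic complement** -/
theorem frob [Finite X] (ρ : X →* MulAut Λ) {P : Subgroup X} {q : X} (hn : ∀ f ∈ P, q * f * q⁻¹ ∈ P)
    (hfpf : ∀ h ∈ zpowers q, h ≠ 1 → ∀ f ∈ P, h * f = f * h → f = 1) (hP : Group.IsNilpotent P)
    (hC : ∀ l : Λ, (∀ g ∈ P, ρ g l = l) → l = 1) :
    Nat.card (Fx ρ q) ^ orderOf q = Nat.card Λ := by
  let _ : MulDistribMulAction X Λ := MulDistribMulAction.compHom Λ ρ
  have hs : ∀ (g : X) (l : Λ), g • l = ρ g l := fun _ _ => rfl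
  have hle : zpowers q ≤ normalizer (P : Set X) := by
    rw [zpowers_le, mem_normalizer_iff]
    intro f
    refine ⟨hn f, fun hf => ?_⟩
    have h1 : ∀ n : ℕ, q ^ n * (q * f * q⁻¹) * (q ^ n)⁻¹ ∈ P := by
      intro n
      induction n with
      | zero => rw [pow_zero, one_mul, inv_one, mul_one]; exact hf
      | succ n ih =>
        have h3 := hn _ ih
        rw [pow_succ', show q * q ^ n * (q * f * q⁻¹) * (q * q ^ n)⁻¹ = q * (q ^ n * (q * f * q⁻¹) * (q ^ n)⁻¹) * q⁻¹ by group]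
        exact h3
    have h2 := h1 (orderOf q - 1)
    have h3 : q ^ (orderOf q - 1) * q = 1 := by
      rw [← pow_succ, Nat.sub_add_cancel (orderOf_pos q), pow_orderOf_eq_one]
    have h4 : q ^ (orderOf q - 1) * (q * f * q⁻¹) * (q ^ (orderOf q - 1))⁻¹ = f := by
      calc q ^ (orderOf q - 1) * (q * f * q⁻¹) * (q ^ (orderOf q - 1))⁻¹
          = (q ^ (orderOf q - 1) * q) * f * (q ^ (orderOf q - 1) * q)⁻¹ := by group
        _ = f := by rw [h3]; group
    rwa [h4] at h2
  have hp : H522.FrobPair P (zpowers q) :=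
    ⟨fun h hh f hf => (mem_normalizer_iff.1 (hle hh) f).1 hf, hfpf⟩
  have h1 := H864.FrobOrder.card_eq hp hP (Nat.card Λ) Λ le_rfl inferInstance hC
  rw [Nat.card_zpowers] at h1
  rw [h1]
  congr 1
  refine Nat.card_congr
    { toFun := fun l => ⟨l.1, ?_⟩
      invFun := fun l => ⟨l.1, ?_⟩
      left_inv := fun l => rfl
      right_inv := fun l => rfl }
  · intro h hh
    obtain ⟨n, rfl⟩ := mem_zpowers_iff.1 hh
    have h2 : q ∈ MulAction.stabilizer X (l : Λ) := l.2
    exact (MulAction.stabilizer X (l : Λ)).zpow_mem h2 n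
  · exact l.2 q (mem_zpowers q)

/-- the action as endomorphisms of the additive group -/
def En (ρ : X →* MulAut Λ) : X →* AddMonoid.End (Additive Λ) where
  toFun g := MonoidHom.toAdditive (ρ g).toMonoidHom
  map_one' := by
    ext l
    show Additive.ofMul (ρ 1 l.toMul) = l
    rw [map_one]
    rfl
  map_mul' g h := by
    ext l
    show Additive.ofMul (ρ (g * h) l.toMul) = _
    rw [map_mul]
    rfl

omit [Finite Λ] in
theorem card_Cn (ρ : X →* MulAut Λ) (g : X) : Nat.card (Cn (En ρ g)) = Nat.card (Fx ρ g) :=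
  Nat.card_congr
    { toFun := fun l => ⟨l.1.toMul, l.2⟩
      invFun := fun l => ⟨Additive.ofMul l.1, l.2⟩
      left_inv := fun _ => rfl
      right_inv := fun _ => rfl }

/-- the fixed points of a noncyclic group of order `p ^ 2`, all of whose elements have small fixed point groups -/
theorem two (ρ : X →* MulAut Λ) {p : ℕ} (hp : p.Prime) (hΛ : ¬ p ∣ Nat.card Λ) {z a : X} (hza : z * a = a * z)
    (hz : z ^ p = 1) (ha : a ^ p = 1) (hmz : Nat.card (Fx ρ z) ^ p = Nat.card Λ)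
    (hm : ∀ j : ℕ, Nat.card (Fx ρ (z ^ j * a)) ^ p = Nat.card Λ) :
    Nat.card (Fx ρ z ⊓ Fx ρ a : Subgroup Λ) ^ p = Nat.card (Fx ρ z) := by
  have hΛ' : ¬ p ∣ Nat.card (Additive Λ) := hΛ
  have h1 := wiel hp hΛ' (u := En ρ z) (v := En ρ a)
    (by show En ρ z * En ρ a = En ρ a * En ρ z; rw [← map_mul, hza, map_mul])
    (by rw [← map_pow, hz, map_one]) (by rw [← map_pow, ha, map_one])
  have h2 : ∀ j : ℕ, Nat.card (Cn (En ρ z ^ j * En ρ a)) = Nat.card (Fx ρ z) := by
    intro j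
    rw [← map_pow, ← map_mul, card_Cn]
    exact Nat.pow_left_injective hp.ne_zero ((hm j).trans hmz.symm)
  rw [Finset.prod_congr rfl fun (j : Fin p) _ => h2 (j : ℕ), prod_const, card_univ, Fintype.card_fin, hmz, card_Cn, mul_comm] at h1
  have h3 : Nat.card (Cn (En ρ z) ⊓ Cn (En ρ a) : AddSubgroup (Additive Λ)) = Nat.card (Fx ρ z ⊓ Fx ρ a : Subgroup Λ) :=
    Nat.card_congr
      { toFun := fun l => ⟨l.1.toMul, l.2⟩
        invFun := fun l => ⟨Additive.ofMul l.1, l.2⟩
        left_inv := fun l => rfl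
        right_inv := fun l => rfl }
  rw [h3] at h1
  exact Nat.eq_of_mul_eq_mul_right Nat.card_pos h1

/-- the action of an element commuting with `z` on the fixed points of `z` -/
def Rs (ρ : X →* MulAut Λ) (z : X) : centralizer ({z} : Set X) →* AddMonoid.End (Cn (En ρ z)) where
  toFun g := AddMonoidHom.mk' (fun w => ⟨En ρ (g : X) w, by
      have h1 := mem_centralizer_singleton_iff.1 g.2
      show En ρ z (En ρ (g : X) w) = En ρ (g : X) w
      rw [← mul_app, ← map_mul, ← h1, map_mul, mul_app, show En ρ z w = w from w.2]⟩) (fun a b => Subtype.ext (map_add _ _ _))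
  map_one' := by
    ext w
    show ((En ρ 1) (w : Additive Λ)) = w
    rw [map_one]
    rfl
  map_mul' g h := by
    ext w
    show (En ρ ((g : X) * h)) (w : Additive Λ) = En ρ (g : X) (En ρ (h : X) w)
    rw [map_mul]
    rfl

omit [Finite Λ] in
theorem Rs_apply (ρ : X →* MulAut Λ) (z : X) (g : centralizer ({z} : Set X)) (w : Cn (En ρ z)) :
    ((Rs ρ z g w : Cn (En ρ z)) : Additive Λ) = En ρ (g : X) w := rfl

omit [Finite Λ] in
theorem card_Cn_Rs (ρ : X →* MulAut Λ) (z : X) (g : centralizer ({z} : Set X)) :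
    Nat.card (Cn (Rs ρ z g)) = Nat.card (Fx ρ z ⊓ Fx ρ (g : X) : Subgroup Λ) :=
  Nat.card_congr
    { toFun := fun l => ⟨l.1.1.toMul, l.1.2, congrArg Subtype.val l.2⟩
      invFun := fun l => ⟨⟨Additive.ofMul l.1, l.2.1⟩, Subtype.ext l.2.2⟩
      left_inv := fun _ => rfl
      right_inv := fun _ => rfl }

/-- **an extraspecial group of exponent `p` all of whose elements have `|C(s)| ^ p = |Λ|` has nontrivial fixed points** -/
theorem heis [Nontrivial Λ] (ρ : X →* MulAut Λ) {p : ℕ} (hp : p.Prime) {S : Subgroup X} [Finite S]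
    {x y z : X} (hSc : S = closure {x, y, z}) (hxz : x * z = z * x) (hyz : y * z = z * y) (hxy : x * y = y * x * z)
    (hexp : ∀ s ∈ S, s ^ p = 1)
    (hm : ∀ s ∈ S, s ≠ 1 → Nat.card (Fx ρ s) ^ p = Nat.card Λ) (hz1 : z ≠ 1) (h1 : ∀ j : ℕ, z ^ j * x ≠ 1)
    (h2 : ∀ i j : ℕ, z ^ j * (x ^ i * y) ≠ 1) : ∃ l : Λ, l ≠ 1 ∧ ∀ s ∈ S, ρ s l = l := by
  have hpf := Fact.mk hp
  by_cases hΛ : p ∣ Nat.card Λ
  · have hS : IsPGroup p S := fun s => ⟨1, Subtype.ext (by rw [pow_one]; exact hexp s s.2)⟩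
    let _ : MulAction S Λ := MulAction.compHom Λ (ρ.comp S.subtype)
    have hs : ∀ (g : S) (l : Λ), g • l = ρ g l := fun _ _ => rfl
    obtain ⟨l, hl, hl1⟩ := hS.exists_fixed_point_of_prime_dvd_card_of_fixed_point Λ hΛ (a := 1) (by
      intro g
      rw [hs, map_one])
    refine ⟨l, hl1.symm, fun s hs' => ?_⟩
    exact (hs ⟨s, hs'⟩ l).symm.trans (hl ⟨s, hs'⟩)
  · have hxS : x ∈ S := by rw [hSc]; exact subset_closure (by simp)
    have hyS : y ∈ S := by rw [hSc]; exact subset_closure (by simp)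
    have hzS : z ∈ S := by rw [hSc]; exact subset_closure (by simp)
    have hmz := hm z hzS hz1
    have h3 : ∀ s ∈ S, s * z = z * s → (∀ j : ℕ, z ^ j * s ≠ 1) →
        Nat.card (Fx ρ z ⊓ Fx ρ s : Subgroup Λ) ^ p = Nat.card (Fx ρ z) := fun s hs hsz hs1 =>
      two ρ hp hΛ hsz.symm (hexp z hzS) (hexp s hs) hmz fun j => hm _ (S.mul_mem (S.pow_mem hzS j) hs) (hs1 j)
    have hxi : ∀ i : ℕ, Commute (x ^ i) z := fun i => (show Commute x z from hxz).pow_left i
    have hxyz : ∀ i : ℕ, (x ^ i * y) * z = z * (x ^ i * y) := by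
      intro i
      rw [mul_assoc, hyz, ← mul_assoc, (hxi i).eq, mul_assoc]
    -- the additive group of the fixed points of `z`
    have hW : Nat.card (Cn (En ρ z)) = Nat.card (Fx ρ z) := card_Cn ρ z
    have hWp : ¬ p ∣ Nat.card (Cn (En ρ z)) := fun h => hΛ (h.trans (by
      rw [hW]
      exact Subgroup.card_subgroup_dvd_card _))
    let X' : centralizer ({z} : Set X) := ⟨x, mem_centralizer_singleton_iff.2 hxz⟩
    let Y' : centralizer ({z} : Set X) := ⟨y, mem_centralizer_singleton_iff.2 hyz⟩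
    have hRz : ∀ w : Cn (En ρ z), En ρ z (w : Additive Λ) = w := fun w => w.2
    have hcomm : Commute (Rs ρ z X') (Rs ρ z Y') := by
      show Rs ρ z X' * Rs ρ z Y' = Rs ρ z Y' * Rs ρ z X'
      ext w
      show En ρ x (En ρ y w) = En ρ y (En ρ x w)
      rw [← mul_app, ← map_mul, hxy, map_mul, mul_app, hRz, map_mul, mul_app]
    have hX' : Rs ρ z X' ^ p = 1 := by
      rw [← map_pow, show X' ^ p = 1 from Subtype.ext (hexp x hxS), map_one]
    have hY' : Rs ρ z Y' ^ p = 1 := by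
      rw [← map_pow, show Y' ^ p = 1 from Subtype.ext (hexp y hyS), map_one]
    have hcx := h3 x hxS hxz h1
    have hcj : ∀ j : ℕ, Nat.card (Cn (Rs ρ z X' ^ j * Rs ρ z Y')) = Nat.card (Fx ρ z ⊓ Fx ρ x : Subgroup Λ) := by
      intro j
      rw [← map_pow, ← map_mul, card_Cn_Rs]
      exact Nat.pow_left_injective hp.ne_zero ((h3 (x ^ j * y) (S.mul_mem (S.pow_mem hxS j) hyS) (hxyz j) (h2 j)).trans hcx.symm)
    have hw := wiel hp hWp hcomm hX' hY'
    rw [Finset.prod_congr rfl fun (j : Fin p) _ => hcj (j : ℕ), prod_const, card_univ, Fintype.card_fin, card_Cn_Rs, hcx, hW,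
      mul_comm] at hw
    have hc : Nat.card (Cn (Rs ρ z X') ⊓ Cn (Rs ρ z Y') : AddSubgroup (Cn (En ρ z))) ^ p =
        Nat.card (Fx ρ z ⊓ Fx ρ x : Subgroup Λ) := Nat.eq_of_mul_eq_mul_right Nat.card_pos hw
    have hgt : 1 < Nat.card (Cn (Rs ρ z X') ⊓ Cn (Rs ρ z Y') : AddSubgroup (Cn (En ρ z))) := by
      by_contra hle
      push Not at hle
      have h5 : Nat.card (Cn (Rs ρ z X') ⊓ Cn (Rs ρ z Y') : AddSubgroup (Cn (En ρ z))) = 1 :=
        le_antisymm hle Nat.card_pos
      rw [h5, one_pow] at hc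
      rw [← hc, one_pow] at hcx
      rw [← hcx, one_pow] at hmz
      exact (Finite.one_lt_card (α := Λ)).ne hmz
    obtain ⟨w, hw0⟩ := AddSubgroup.ne_bot_iff_exists_ne_zero.1 ((AddSubgroup.one_lt_card_iff_ne_bot _).1 hgt)
    refine ⟨w.1.1.toMul, ?_, ?_⟩
    · intro h
      apply hw0
      apply Subtype.ext
      apply Subtype.ext
      exact h
    · have hx' : ρ x w.1.1.toMul = w.1.1.toMul := congrArg Subtype.val w.2.1
      have hy' : ρ y w.1.1.toMul = w.1.1.toMul := congrArg Subtype.val w.2.2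
      have hz' : ρ z w.1.1.toMul = w.1.1.toMul := w.1.2
      let _ : MulAction X Λ := MulAction.compHom Λ ρ
      have hle : S ≤ MulAction.stabilizer X w.1.1.toMul := by
        rw [hSc, closure_le]
        intro g hg
        simp only [Set.mem_insert_iff, Set.mem_singleton_iff] at hg
        rcases hg with rfl | rfl | rfl
        · exact hx'
        · exact hy'
        · exact hz'
      intro s hs
      exact hle hs

end

end Cfsg.Agent.H840.S8
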