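import Mathlib

/-!
# The fixed point formula for two commuting automorphisms of prime order (helper840)

`wiel` : `|V| |C(u, v)| ^ p = |C(u)| ∏ |C(u ^ j v)|`, `j < p`, for a finite abelian group `V` of order prime to `p` and
commuting automorphisms `u`, `v` with `u ^ p = v ^ p = 1`.
-/

set_option autoImplicit false

namespace Cfsg.Agent.H840.S8

open Finset

section

variable {V : Type*} [AddCommGroup V]

/-- fixed points -/
def Cn (u : AddMonoid.End V) : AddSubgroup V where
  carrier := {x | u x = x}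
  zero_mem' := map_zero u
  add_mem' := fun {a b} ha hb => by
    show u (a + b) = a + b
    rw [map_add, show u a = a from ha, show u b = b from hb]
  neg_mem' := fun {a} ha => by
    show u (-a) = -a
    rw [map_neg, show u a = a from ha]

theorem mem_Cn {u : AddMonoid.End V} {x : V} : x ∈ Cn u ↔ u x = x := Iff.rfl

theorem mul_app (u v : AddMonoid.End V) (x : V) : (u * v) x = u (v x) := rfl

/-- the norm -/
def Nm (p : ℕ) (u : AddMonoid.End V) : AddMonoid.End V := ∑ i ∈ range p, u ^ i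

theorem Nm_apply (p : ℕ) (u : AddMonoid.End V) (x : V) : Nm p u x = ∑ i ∈ range p, (u ^ i) x :=
  AddMonoidHom.finsetSum_apply _ _ _

theorem pow_fix {u : AddMonoid.End V} {x : V} (h : u x = x) (i : ℕ) : (u ^ i) x = x := by
  induction i with
  | zero => rfl
  | succ i ih => rw [pow_succ, mul_app, h, ih]

theorem Nm_fix (p : ℕ) {u : AddMonoid.End V} {x : V} (h : u x = x) : Nm p u x = p • x := by
  rw [Nm_apply, sum_congr rfl fun i _ => pow_fix h i, sum_const, card_range]

theorem mul_Nm {p : ℕ} (hp : 0 < p) {u : AddMonoid.End V} (hu : u ^ p = 1) : u * Nm p u = Nm p u := by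
  unfold Nm
  rw [mul_sum]
  obtain ⟨n, rfl⟩ : ∃ n, p = n + 1 := ⟨p - 1, by omega⟩
  rw [sum_congr rfl fun i _ => (pow_succ' u i).symm, sum_range_succ, hu, sum_range_succ', pow_zero]

theorem Nm_mem {p : ℕ} (hp : 0 < p) {u : AddMonoid.End V} (hu : u ^ p = 1) (x : V) : u (Nm p u x) = Nm p u x := by
  rw [← mul_app, mul_Nm hp hu]

theorem Nm_comm (p : ℕ) {u w : AddMonoid.End V} (h : Commute w u) : Commute w (Nm p u) :=
  Commute.sum_right _ _ _ fun i _ => h.pow_right i

/-- the exponents may be permuted -/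
theorem Nm_pow {p : ℕ} (hp : p.Prime) {u : AddMonoid.End V} (hu : u ^ p = 1) {c : ℕ} (hc : ¬ p ∣ c) :
    Nm p (u ^ c) = Nm p u := by
  unfold Nm
  have hmod : ∀ n : ℕ, u ^ n = u ^ (n % p) := by
    intro n
    conv_lhs => rw [← Nat.div_add_mod n p, pow_add, pow_mul, hu, one_pow, one_mul]
  have h1 : ∀ i, (u ^ c) ^ i = u ^ (c * i % p) := by
    intro i
    rw [← pow_mul, hmod]
  rw [sum_congr rfl fun i _ => h1 i]
  have hinj : Set.InjOn (fun i => c * i % p) (range p) := by
    intro i hi j hj hij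
    rw [mem_coe, mem_range] at hi hj
    have h2 : c * i ≡ c * j [MOD p] := hij
    have h3 : i ≡ j [MOD p] := Nat.ModEq.cancel_left_of_coprime ((Nat.Prime.coprime_iff_not_dvd hp).2 hc) h2
    have h4 := h3
    unfold Nat.ModEq at h4
    rwa [Nat.mod_eq_of_lt hi, Nat.mod_eq_of_lt hj] at h4
  have himg : (range p).image (fun i => c * i % p) = range p := by
    apply eq_of_subset_of_card_le
    · intro x hx
      rw [mem_image] at hx
      obtain ⟨i, -, rfl⟩ := hx
      exact mem_range.2 (Nat.mod_lt _ hp.pos)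
    · rw [card_image_of_injOn hinj]
  conv_rhs => rw [← himg, sum_image hinj]

/-- the sum of the norms of `u ^ j v` -/
theorem sum_Nm {p : ℕ} (hp : p.Prime) {u v : AddMonoid.End V} (huv : Commute u v) (hu : u ^ p = 1) {y : V}
    (hy : Nm p u y = 0) : ∑ j ∈ range p, Nm p (u ^ j * v) y = p • y := by
  have h1 : ∀ j i, ((u ^ j * v) ^ i) y = ((u ^ i) ^ j) ((v ^ i) y) := by
    intro j i
    rw [(huv.pow_left j).mul_pow, mul_app, ← pow_mul, ← pow_mul, mul_comm j i]
  rw [sum_congr rfl fun j _ => Nm_apply p (u ^ j * v) y, sum_comm]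
  have h2 : ∀ i ∈ range p, ∑ j ∈ range p, ((u ^ j * v) ^ i) y = if i = 0 then p • y else 0 := by
    intro i hi
    rw [mem_range] at hi
    rw [sum_congr rfl fun j _ => h1 j i, ← Nm_apply]
    split_ifs with h0
    · subst h0
      rw [pow_zero, pow_zero]
      exact Nm_fix p rfl
    · rw [Nm_pow hp hu (fun h => h0 (Nat.eq_zero_of_dvd_of_lt h hi))]
      have h3 := Nm_comm p (huv.symm.pow_left i)
      rw [← mul_app, ← h3.eq, mul_app, hy, map_zero]
  rw [sum_congr rfl h2, sum_ite_eq' (range p) 0 fun _ => p • y, if_pos (mem_range.2 hp.pos)]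

variable [Finite V]

theorem exists_inv {p : ℕ} (hp : p.Prime) (hV : ¬ p ∣ Nat.card V) : ∃ k : ℕ, ∀ x : V, k • p • x = x := by
  have h1 : Nat.Coprime p (Nat.card V) := (Nat.Prime.coprime_iff_not_dvd hp).2 hV
  rcases Nat.lt_or_ge 1 (Nat.card V) with h2 | h2
  · obtain ⟨k, -, hk⟩ := Nat.exists_mul_mod_eq_one_of_coprime h1 h2
    refine ⟨k, fun x => ?_⟩
    rw [← mul_nsmul', mul_comm k p, ← Nat.div_add_mod (p * k) (Nat.card V), hk, add_nsmul, one_nsmul, mul_nsmul',
      card_nsmul_eq_zero', zero_add]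
  · have : Subsingleton V := Finite.card_le_one_iff_subsingleton.1 h2
    exact ⟨0, fun x => Subsingleton.elim _ _⟩

omit [Finite V] in
/-- restriction of a homomorphism to a subgroup: cardinalities -/
theorem card_split (f : V →+ V) (A : AddSubgroup V) :
    Nat.card A = Nat.card (A ⊓ f.ker : AddSubgroup V) * Nat.card (A.map f) := by
  have h1 := AddSubgroup.card_mul_index (f.comp A.subtype).ker
  rw [AddSubgroup.index_ker] at h1
  have h2 : Nat.card (f.comp A.subtype).ker = Nat.card (A ⊓ f.ker : AddSubgroup V) := by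
    refine Nat.card_congr
      { toFun := fun x => ⟨x.1.1, x.1.2, x.2⟩
        invFun := fun x => ⟨⟨x.1, x.2.1⟩, x.2.2⟩
        left_inv := fun x => rfl
        right_inv := fun x => rfl }
  have h3 : (f.comp A.subtype).range = A.map f := by
    ext x
    constructor
    · rintro ⟨a, rfl⟩
      exact ⟨a, a.2, rfl⟩
    · rintro ⟨a, ha, rfl⟩
      exact ⟨⟨a, ha⟩, rfl⟩
  rw [← h1, h2, h3]

/-- **the fixed point formula** -/
theorem wiel {p : ℕ} (hp : p.Prime) (hV : ¬ p ∣ Nat.card V) {u v : AddMonoid.End V} (huv : Commute u v)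
    (hu : u ^ p = 1) (hv : v ^ p = 1) :
    Nat.card V * Nat.card (Cn u ⊓ Cn v : AddSubgroup V) ^ p = Nat.card (Cn u) * ∏ j : Fin p, Nat.card (Cn (u ^ (j : ℕ) * v)) := by
  obtain ⟨k, hk⟩ := exists_inv hp hV
  let N : V →+ V := Nm p u
  have hN : ∀ x, N x = Nm p u x := fun _ => rfl
  -- the image of an invariant subgroup
  have himg : ∀ A : AddSubgroup V, (∀ x ∈ A, Nm p u x ∈ A) → A.map N = A ⊓ Cn u := by
    intro A hA
    ext x
    constructor
    · rintro ⟨a, ha, rfl⟩
      exact ⟨hA a ha, Nm_mem hp.pos hu a⟩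
    · rintro ⟨h1, h2⟩
      refine ⟨k • x, A.nsmul_mem h1 k, ?_⟩
      rw [hN, map_nsmul, Nm_fix p h2, hk]
  have hVY : Nat.card V = Nat.card N.ker * Nat.card (Cn u) := by
    have h1 := card_split N ⊤
    rw [himg ⊤ (fun x _ => AddSubgroup.mem_top _), top_inf_eq, top_inf_eq] at h1
    rw [← h1]
    exact (Nat.card_congr (AddSubgroup.topEquiv (G := V)).toEquiv).symm
  have hcj : ∀ j : ℕ, Commute u (u ^ j * v) := fun j => ((Commute.refl u).pow_right j).mul_right huv
  have hinv : ∀ j : ℕ, ∀ x ∈ Cn (u ^ j * v), Nm p u x ∈ Cn (u ^ j * v) := by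
    intro j x hx
    have h1 := Nm_comm p (hcj j).symm
    rw [mem_Cn, ← mul_app, h1.eq, mul_app, mem_Cn.1 hx]
  have hinf : ∀ j : ℕ, (Cn (u ^ j * v) ⊓ Cn u : AddSubgroup V) = Cn u ⊓ Cn v := by
    intro j
    ext x
    constructor
    · rintro ⟨h1, h2⟩
      refine ⟨h2, ?_⟩
      have h3 : (u ^ j * v) x = v x := by
        rw [((huv.pow_left j)).eq, mul_app, pow_fix h2]
      exact h3.symm.trans h1
    · rintro ⟨h1, h2⟩
      refine ⟨?_, h1⟩
      show (u ^ j * v) x = x
      rw [mul_app, show v x = x from h2, pow_fix h1]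
  have hcard : ∀ j : ℕ, Nat.card (Cn (u ^ j * v)) = Nat.card (Cn (u ^ j * v) ⊓ N.ker : AddSubgroup V) *
      Nat.card (Cn u ⊓ Cn v : AddSubgroup V) := by
    intro j
    have h1 := card_split N (Cn (u ^ j * v))
    rwa [himg _ (hinv j), hinf] at h1
  -- the decomposition of the kernel
  have hwp : ∀ j : ℕ, (u ^ j * v) ^ p = 1 := by
    intro j
    rw [(huv.pow_left j).mul_pow, ← pow_mul, mul_comm, pow_mul, hu, one_pow, hv, one_mul]
  have hker : ∀ (j : ℕ) (y : V), y ∈ N.ker → Nm p (u ^ j * v) y ∈ (Cn (u ^ j * v) ⊓ N.ker : AddSubgroup V) := by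
    intro j y hy
    refine ⟨Nm_mem hp.pos (hwp j) y, ?_⟩
    show Nm p u (Nm p (u ^ j * v) y) = 0
    rw [← mul_app, (Nm_comm p (Nm_comm p (hcj j)).symm).symm.eq, mul_app]
    have h0 : Nm p u y = 0 := hy
    rw [h0, map_zero]
  let Φ : N.ker → (∀ j : Fin p, (Cn (u ^ (j : ℕ) * v) ⊓ N.ker : AddSubgroup V)) :=
    fun y j => ⟨Nm p (u ^ (j : ℕ) * v) y, hker j y y.2⟩
  have hvan : ∀ (i j : Fin p) (y : V), y ∈ (Cn (u ^ (i : ℕ) * v) ⊓ N.ker : AddSubgroup V) → i ≠ j →
      Nm p (u ^ (j : ℕ) * v) y = 0 := by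
    intro i j y hy hij
    obtain ⟨h1, h2⟩ := hy
    have h0 : Nm p u y = 0 := h2
    -- `v y = u ^ (p - i) y`
    have h3 : v y = (u ^ (p - (i : ℕ))) y := by
      have h4 : (u ^ (p - (i : ℕ))) ((u ^ (i : ℕ) * v) y) = (u ^ (p - (i : ℕ))) y := by rw [mem_Cn.1 h1]
      rw [← mul_app, ← mul_assoc, ← pow_add, Nat.sub_add_cancel i.2.le, hu, one_mul] at h4
      exact h4
    set c : ℕ := (j : ℕ) + (p - (i : ℕ)) with hc
    have h5 : (u ^ (j : ℕ) * v) y = (u ^ c) y := by
      rw [mul_app, h3, ← mul_app, ← pow_add]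
    have h6 : ∀ n : ℕ, ((u ^ (j : ℕ) * v) ^ n) y = ((u ^ c) ^ n) y := by
      intro n
      induction n with
      | zero => rfl
      | succ n ih =>
        have h7 : Commute (u ^ (j : ℕ) * v) ((u ^ c) ^ n) := (((hcj j).symm).pow_right c).pow_right n
        rw [pow_succ', mul_app, ih, ← mul_app, h7.eq, mul_app, h5, ← mul_app, ← pow_succ]
    have h8 : Nm p (u ^ (j : ℕ) * v) y = Nm p (u ^ c) y := by
      rw [Nm_apply, Nm_apply, sum_congr rfl fun n _ => h6 n]
    rw [h8, Nm_pow hp hu, h0]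
    intro hd
    have hi := i.2
    have hj := j.2
    have hne : (i : ℕ) ≠ j := fun h => hij (Fin.ext h)
    obtain ⟨m, hm⟩ := hd
    have h9 : m = 1 := by
      have h10 : 0 < c := by omega
      have h11 : c < p * 2 := by omega
      rw [hm] at h10 h11
      have h12 : m < 2 := Nat.lt_of_mul_lt_mul_left h11
      have h13 : 0 < m := Nat.pos_of_mul_pos_left h10 |> fun _ => Nat.pos_of_ne_zero (by rintro rfl; simp at h10)
      omega
    rw [h9, mul_one] at hm
    omega
  have hbij : Function.Bijective Φ := by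
    constructor
    · intro y y' h
      apply Subtype.ext
      have h1 := sum_Nm hp huv hu (y := (y : V)) y.2
      have h2 := sum_Nm hp huv hu (y := (y' : V)) y'.2
      have h3 : ∑ j ∈ range p, Nm p (u ^ j * v) (y : V) = ∑ j ∈ range p, Nm p (u ^ j * v) (y' : V) := by
        refine sum_congr rfl fun j hj => ?_
        exact congrArg Subtype.val (congrFun h ⟨j, mem_range.1 hj⟩)
      rw [h1, h2] at h3
      rw [← hk (y : V), h3, hk]
    · intro z
      let y : V := k • ∑ i : Fin p, (z i : V)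
      have hy : y ∈ N.ker := by
        refine N.ker.nsmul_mem (N.ker.sum_mem fun i _ => (z i).2.2) k
      refine ⟨⟨y, hy⟩, ?_⟩
      funext j
      apply Subtype.ext
      show Nm p (u ^ (j : ℕ) * v) (k • ∑ i : Fin p, (z i : V)) = z j
      rw [map_nsmul, map_sum, Finset.sum_eq_single j]
      · rw [Nm_fix p (z j).2.1, hk]
      · intro i _ hij
        exact hvan i j _ (z i).2 hij
      · intro h
        exact absurd (mem_univ j) h
  have hYp : Nat.card N.ker = ∏ j : Fin p, Nat.card (Cn (u ^ (j : ℕ) * v) ⊓ N.ker : AddSubgroup V) := by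
    rw [Nat.card_congr (Equiv.ofBijective Φ hbij), Nat.card_pi]
  have hprod : ∏ j : Fin p, Nat.card (Cn (u ^ (j : ℕ) * v)) = ∏ j : Fin p, (Nat.card (Cn (u ^ (j : ℕ) * v) ⊓ N.ker : AddSubgroup V) *
      Nat.card (Cn u ⊓ Cn v : AddSubgroup V)) := Finset.prod_congr rfl fun j _ => hcard (j : ℕ)
  rw [hprod, Finset.prod_mul_distrib, ← hYp, Finset.prod_const, card_univ,
    Fintype.card_fin, hVY]
  ring

end

end Cfsg.Agent.H840.S8
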